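import Groth.Prelude.Def_PolLaw2
import Groth.Agent.Lib.PolLaw.FromPoly
import Groth.Agent.Lib.CharPolyInt.Basic
import Groth.Agent.Lib.JacobsonDescent.Basic

/-!
# The determinant law of the generic rank over an integrally closed domain
-/

set_option autoImplicit false

universe u

open scoped TensorProduct
open MvPolynomial

namespace GrothLib.GenDet17

variable {A B M : Type u} [CommRing A] [CommRing B] [Algebra A B] [AddCommGroup M] [Module A M]
  [Module B M] [IsScalarTower A B M]

theorem det_actEnd_map (R R' : Type u) [CommRing R] [Algebra A R] [CommRing R'] [Algebra A R']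
    [Algebra R R'] [IsScalarTower A R R'] (y : R ⊗[A] B) :
    LinearMap.det (_root_.PolLaw.actEnd M R'
        (Algebra.TensorProduct.map (IsScalarTower.toAlgHom A R R') (AlgHom.id A B) y)) =
      LinearMap.det ((_root_.PolLaw.actEnd M R y).baseChange R') := by
  let e := TensorProduct.AlgebraTensorModule.cancelBaseChange A R R' R' M
  have he : ∀ z : R ⊗[A] M,
      e ((1 : R') ⊗ₜ[R] z) = (IsScalarTower.toAlgHom A R R').toLinearMap.rTensor M z := by
    intro z
    induction z using TensorProduct.induction_on with
    | zero => simp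
    | tmul r m => simp [e, Algebra.smul_def]
    | add a b ha hb => simp only [TensorProduct.tmul_add, map_add, ha, hb]
  rw [← LinearMap.det_conj ((_root_.PolLaw.actEnd M R y).baseChange R') e]
  congr 1
  refine LinearMap.ext fun w => ?_
  obtain ⟨w, rfl⟩ := e.surjective w
  simp only [LinearMap.comp_apply, LinearEquiv.coe_coe, LinearEquiv.symm_apply_apply]
  induction w using TensorProduct.induction_on with
  | zero => simp
  | add a b ha hb => simp only [map_add, ha, hb]
  | tmul r z =>
    rw [← mul_one r, ← smul_eq_mul, ← TensorProduct.smul_tmul', map_smul, map_smul, map_smul,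
      map_smul, LinearMap.baseChange_tmul, he, he, _root_.PolLaw.rTensor_actEnd]

variable (M) in
/-- Over an algebra over the fraction field the module becomes free. -/
theorem free_of_tower (K R : Type u) [Field K] [Algebra A K] [CommRing R] [Algebra A R] [Algebra K R]
    [IsScalarTower A K R] : Module.Free R (R ⊗[A] M) :=
  Module.Free.of_equiv (TensorProduct.AlgebraTensorModule.cancelBaseChange A K R R M)

theorem finrank_of_tower (K R : Type u) [Field K] [Algebra A K] [CommRing R] [Nontrivial R] [Algebra A R]
    [Algebra K R] [IsScalarTower A K R] :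
    Module.finrank R (R ⊗[A] M) = Module.finrank K (K ⊗[A] M) := by
  rw [← LinearEquiv.finrank_eq (TensorProduct.AlgebraTensorModule.cancelBaseChange A K R R M),
    Module.finrank_baseChange]

theorem tmul_one_mul_eq_smul {C : Type u} [CommRing C] [Algebra A C] {S : Type u} [CommSemiring S]
    [Algebra A S] (s : S) (z : S ⊗[A] C) : (s ⊗ₜ[A] (1 : C)) * z = s • z := by
  induction z using TensorProduct.induction_on with
  | zero => simp
  | tmul t c => simp [TensorProduct.smul_tmul']
  | add a b ha hb => simp only [mul_add, smul_add, ha, hb]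

variable [IsDomain A]

variable (A) in
/-- The inclusion of polynomial rings. -/
noncomputable abbrev toGen (n : ℕ) : MvPolynomial (Fin n) A →ₐ[A] MvPolynomial (Fin n) (FractionRing A) :=
  MvPolynomial.mapAlgHom (Algebra.ofId A (FractionRing A))

variable (A) in
theorem toGen_injective (n : ℕ) : Function.Injective (toGen A n) :=
  MvPolynomial.map_injective _ (IsFractionRing.injective A (FractionRing A))

variable (A) in
/-- The embedding of the generic polynomial ring into the fraction field. -/
noncomputable def genToFrac (n : ℕ) :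
    MvPolynomial (Fin n) (FractionRing A) →ₐ[A] FractionRing (MvPolynomial (Fin n) A) :=
  MvPolynomial.aevalTower
    (IsFractionRing.liftAlgHom (g := Algebra.ofId A (FractionRing (MvPolynomial (Fin n) A))) (by
      rw [show ⇑(Algebra.ofId A (FractionRing (MvPolynomial (Fin n) A))) =
        algebraMap (MvPolynomial (Fin n) A) (FractionRing (MvPolynomial (Fin n) A)) ∘ MvPolynomial.C from
        funext fun a => by simp [Algebra.ofId_apply, IsScalarTower.algebraMap_apply A (MvPolynomial (Fin n) A)
          (FractionRing (MvPolynomial (Fin n) A))]]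
      exact (IsFractionRing.injective _ _).comp (MvPolynomial.C_injective _ _)))
    fun i => algebraMap (MvPolynomial (Fin n) A) _ (MvPolynomial.X i)

variable (A) in
theorem genToFrac_comp_toGen (n : ℕ) :
    (genToFrac A n).comp (toGen A n) =
      IsScalarTower.toAlgHom A (MvPolynomial (Fin n) A) (FractionRing (MvPolynomial (Fin n) A)) :=
  MvPolynomial.algHom_ext fun i => by simp [genToFrac, toGen, MvPolynomial.mapAlgHom_apply]

theorem genToFrac_toGen {n : ℕ} (p : MvPolynomial (Fin n) A) :
    genToFrac A n (toGen A n p) = algebraMap (MvPolynomial (Fin n) A) _ p :=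
  DFunLike.congr_fun (genToFrac_comp_toGen A n) p

theorem exists_clear {n : ℕ} (f : MvPolynomial (Fin n) (FractionRing A)) :
    ∃ (a : A) (g : MvPolynomial (Fin n) A), a ≠ 0 ∧ a • f = toGen A n g := by
  induction f using MvPolynomial.induction_on' with
  | monomial u c =>
    obtain ⟨x, y, hy, rfl⟩ := IsFractionRing.div_surjective (A := A) c
    refine ⟨y, MvPolynomial.monomial u x, nonZeroDivisors.ne_zero hy, ?_⟩
    rw [MvPolynomial.smul_monomial, toGen, MvPolynomial.mapAlgHom_apply, MvPolynomial.map_monomial]
    congr 1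
    rw [Algebra.smul_def, mul_div_cancel₀ _ (IsFractionRing.to_map_ne_zero_of_mem_nonZeroDivisors hy)]
    rfl
  | add p q hp hq =>
    obtain ⟨a, g, ha, hg⟩ := hp
    obtain ⟨b, h, hb, hh⟩ := hq
    refine ⟨a * b, b • g + a • h, mul_ne_zero ha hb, ?_⟩
    rw [map_add, map_smul, map_smul, ← hg, ← hh, smul_add, smul_smul, smul_smul, mul_comm b a]

variable (A) in
theorem genToFrac_injective (n : ℕ) : Function.Injective (genToFrac A n) := by
  rw [injective_iff_map_eq_zero]
  intro f hf
  obtain ⟨a, g, ha, hg⟩ := exists_clear f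
  have h := congrArg (genToFrac A n) hg
  rw [map_smul, hf, smul_zero, genToFrac_toGen] at h
  rw [IsFractionRing.injective _ _ (h.symm.trans (map_zero _).symm), map_zero] at hg
  exact (smul_eq_zero.mp hg).resolve_left ha

variable (M) in
/-- The determinant over the generic polynomial ring. -/
noncomputable def genDet {n : ℕ} (x : MvPolynomial (Fin n) A ⊗[A] B) :
    MvPolynomial (Fin n) (FractionRing A) :=
  _root_.PolLaw.detAct M (MvPolynomial (Fin n) (FractionRing A))
    (Algebra.TensorProduct.map (toGen A n) (AlgHom.id A B) x)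

variable [Module.Finite A M]

theorem det_actEnd_algHom {R R' : Type u} [CommRing R] [Algebra A R] [CommRing R'] [Algebra A R']
    (ψ : R →ₐ[A] R') [Algebra (FractionRing A) R] [IsScalarTower A (FractionRing A) R]
    (y : R ⊗[A] B) :
    _root_.PolLaw.detAct M R' (Algebra.TensorProduct.map ψ (AlgHom.id A B) y) =
      ψ (_root_.PolLaw.detAct M R y) := by
  letI := ψ.toRingHom.toAlgebra
  haveI : IsScalarTower A R R' := IsScalarTower.of_algebraMap_eq fun a => (ψ.commutes a).symm
  haveI := free_of_tower (A := A) M (FractionRing A) R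
  unfold _root_.PolLaw.detAct
  have : IsScalarTower.toAlgHom A R R' = ψ := AlgHom.ext fun _ => rfl
  rw [← this, det_actEnd_map, LinearMap.det_baseChange]
  rfl

omit [IsDomain A] in
theorem detAct_tmul_one (K R : Type u) [Field K] [Algebra A K] [CommRing R] [Nontrivial R] [Algebra A R]
    [Algebra K R] [IsScalarTower A K R] (r : R) :
    _root_.PolLaw.detAct M R (r ⊗ₜ[A] (1 : B)) = r ^ Module.finrank K (K ⊗[A] M) := by
  haveI := free_of_tower (A := A) M K R
  rw [show r ⊗ₜ[A] (1 : B) = r • (1 : R ⊗[A] B) from by
    rw [Algebra.TensorProduct.one_def, TensorProduct.smul_tmul', smul_eq_mul, mul_one]]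
  unfold _root_.PolLaw.detAct
  rw [map_smul, map_one, LinearMap.det_smul, map_one, mul_one, finrank_of_tower (A := A) K]

omit [IsDomain A] in
theorem isIntegral_detAct (P F : Type u) [CommRing P] [Algebra A P] [Field F] [Algebra A F] [Algebra P F]
    [IsScalarTower A P F] (x : P ⊗[A] B) :
    IsIntegral P (_root_.PolLaw.detAct M F
      (Algebra.TensorProduct.map (IsScalarTower.toAlgHom A P F) (AlgHom.id A B) x)) := by
  unfold _root_.PolLaw.detAct
  rw [det_actEnd_map, LinearMap.det_eq_sign_charpoly_coeff]
  exact (isIntegral_one.neg.pow _).mul (GrothLib.CharPolyInt.isIntegral_charpoly_coeff _ 0)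

theorem frac_det_eq {n : ℕ} (x : MvPolynomial (Fin n) A ⊗[A] B) :
    _root_.PolLaw.detAct M (FractionRing (MvPolynomial (Fin n) A))
      (Algebra.TensorProduct.map
        (IsScalarTower.toAlgHom A (MvPolynomial (Fin n) A) (FractionRing (MvPolynomial (Fin n) A)))
        (AlgHom.id A B) x) = genToFrac A n (genDet M x) := by
  rw [genDet, ← det_actEnd_algHom (genToFrac A n)]
  rw [← AlgHom.comp_apply (Algebra.TensorProduct.map (genToFrac A n) _), ← Algebra.TensorProduct.map_comp,
    genToFrac_comp_toGen, AlgHom.comp_id]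

theorem genDet_one {n : ℕ} : genDet M (1 : MvPolynomial (Fin n) A ⊗[A] B) = 1 := by
  rw [genDet, map_one, _root_.PolLaw.detAct_one]

theorem genDet_mul {n : ℕ} (x y : MvPolynomial (Fin n) A ⊗[A] B) :
    genDet M (x * y) = genDet M x * genDet M y := by
  rw [genDet, genDet, genDet, map_mul, _root_.PolLaw.detAct_mul]

theorem genDet_tmul_one {n : ℕ} (p : MvPolynomial (Fin n) A) :
    genDet M (p ⊗ₜ[A] (1 : B)) =
      toGen A n p ^ Module.finrank (FractionRing A) (FractionRing A ⊗[A] M) := by
  rw [genDet, Algebra.TensorProduct.map_tmul, map_one,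
    detAct_tmul_one (FractionRing A)]

theorem genDet_map {n m : ℕ} (φ : MvPolynomial (Fin n) A →ₐ[A] MvPolynomial (Fin m) A)
    (x : MvPolynomial (Fin n) A ⊗[A] B) :
    genDet M (Algebra.TensorProduct.map φ (AlgHom.id A B) x) =
      MvPolynomial.aeval (R := FractionRing A) (fun i => toGen A m (φ (MvPolynomial.X i))) (genDet M x) := by
  let ψ : MvPolynomial (Fin n) (FractionRing A) →ₐ[A] MvPolynomial (Fin m) (FractionRing A) :=
    (MvPolynomial.aeval (R := FractionRing A) (fun i => toGen A m (φ (MvPolynomial.X i)))).restrictScalars A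
  show _ = ψ (genDet M x)
  rw [genDet, genDet, ← det_actEnd_algHom ψ, ← AlgHom.comp_apply (Algebra.TensorProduct.map ψ _),
    ← AlgHom.comp_apply (Algebra.TensorProduct.map (toGen A m) _),
    ← Algebra.TensorProduct.map_comp, ← Algebra.TensorProduct.map_comp,
    show (toGen A m).comp φ = ψ.comp (toGen A n) from
      MvPolynomial.algHom_ext fun i => by simp [ψ, toGen, MvPolynomial.mapAlgHom_apply]]

variable [IsIntegrallyClosed A]

theorem exists_lift_genDet {n : ℕ} (x : MvPolynomial (Fin n) A ⊗[A] B) :
    ∃ t : MvPolynomial (Fin n) A, toGen A n t = genDet M x := by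
  haveI := GrothLib.JacobsonDescent.isIntegrallyClosed_mvPolynomial A n
  have hint := isIntegral_detAct (M := M) (MvPolynomial (Fin n) A) (FractionRing (MvPolynomial (Fin n) A)) x
  rw [frac_det_eq] at hint
  obtain ⟨t, ht⟩ := IsIntegrallyClosed.isIntegral_iff.mp hint
  exact ⟨t, genToFrac_injective A n (by rw [genToFrac_toGen, ht])⟩

variable (M) in
/-- The value of the law on a polynomial ring. -/
noncomputable def genVal {n : ℕ} (x : MvPolynomial (Fin n) A ⊗[A] B) : MvPolynomial (Fin n) A :=
  (exists_lift_genDet (M := M) x).choose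

theorem toGen_genVal {n : ℕ} (x : MvPolynomial (Fin n) A ⊗[A] B) :
    toGen A n (genVal M x) = genDet M x :=
  (exists_lift_genDet (M := M) x).choose_spec

variable (M) in
/-- The family on polynomial rings. -/
noncomputable def genFam (n : ℕ) (x : MvPolynomial (Fin n) A ⊗[A] B) : MvPolynomial (Fin n) A ⊗[A] A :=
  genVal M x ⊗ₜ[A] 1

theorem polyCompat_genFam : GrothLib.PolLaw.PolyCompat (A := A) (M := B) (N := A) (genFam M) := by
  intro n m φ
  funext x
  simp only [Function.comp_apply, genFam, LinearMap.rTensor_tmul, AlgHom.toLinearMap_apply]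
  congr 1
  apply toGen_injective A m
  rw [toGen_genVal, _root_.PolLaw.rTensor_algHom_apply, genDet_map, ← toGen_genVal]
  exact (DFunLike.congr_fun (show ((MvPolynomial.aeval (R := FractionRing A)
      (fun i => toGen A m (φ (MvPolynomial.X i)))).restrictScalars A).comp (toGen A n) = (toGen A m).comp φ from
    MvPolynomial.algHom_ext fun i => by simp [toGen, MvPolynomial.mapAlgHom_apply]) (genVal M x)).symm

variable (M) in
/-- The underlying law. -/
noncomputable def genPLaw : B →ₚₗ[A] A :=
  GrothLib.PolLaw.ofPoly (polyCompat_genFam (A := A) (B := B) (M := M))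

theorem genPLaw_apply {n : ℕ} (x : MvPolynomial (Fin n) A ⊗[A] B) :
    (genPLaw M).toFun' (MvPolynomial (Fin n) A) x = genVal M x ⊗ₜ[A] 1 :=
  GrothLib.PolLaw.ofPoly_apply _ n x

theorem genPLaw_map {S : Type u} [CommSemiring S] [Algebra A S] {n : ℕ}
    (ψ : MvPolynomial (Fin n) A →ₐ[A] S) (x : MvPolynomial (Fin n) A ⊗[A] B) :
    (genPLaw M).toFun' S (ψ.toLinearMap.rTensor B x) = ψ (genVal M x) ⊗ₜ[A] 1 := by
  rw [← PolynomialLaw.isCompat_apply', genPLaw_apply]
  rfl

theorem genVal_mul {n : ℕ} (x y : MvPolynomial (Fin n) A ⊗[A] B) :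
    genVal M (x * y) = genVal M x * genVal M y := by
  apply toGen_injective A n
  rw [map_mul, toGen_genVal, toGen_genVal, toGen_genVal, genDet_mul]

theorem genVal_one {n : ℕ} : genVal M (1 : MvPolynomial (Fin n) A ⊗[A] B) = 1 := by
  apply toGen_injective A n
  rw [toGen_genVal, genDet_one, map_one]

theorem genVal_tmul_one {n : ℕ} (p : MvPolynomial (Fin n) A) :
    genVal M (p ⊗ₜ[A] (1 : B)) = p ^ Module.finrank (FractionRing A) (FractionRing A ⊗[A] M) := by
  apply toGen_injective A n
  rw [toGen_genVal, genDet_tmul_one, map_pow]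

theorem isMult_genPLaw : _root_.PolLaw.IsMult (genPLaw (B := B) (A := A) M) := by
  intro S _ _
  refine ⟨?_, fun x y => ?_⟩
  · have h := genPLaw_map (M := M) (B := B) (MvPolynomial.aeval (R := A) (Fin.elim0 : Fin 0 → S)) 1
    rw [_root_.PolLaw.rTensor_algHom_apply, map_one, genVal_one, map_one] at h
    exact h
  · obtain ⟨n, ψ, p, q, rfl, rfl⟩ := GrothLib.PolLaw.exists_lift_pair x y
    have e : ψ.toLinearMap.rTensor B p * ψ.toLinearMap.rTensor B q = ψ.toLinearMap.rTensor B (p * q) := by
      simp only [_root_.PolLaw.rTensor_algHom_apply, map_mul]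
    rw [e, genPLaw_map, genPLaw_map, genPLaw_map, genVal_mul, map_mul,
      Algebra.TensorProduct.tmul_mul_tmul, mul_one]

variable {d : ℕ} (hd : Module.finrank (FractionRing A) (FractionRing A ⊗[A] M) = d)

include hd in
theorem isHomog_genPLaw : _root_.PolLaw.IsHomog (genPLaw (B := B) (A := A) M) d := by
  intro S _ _ s x
  have h := genPLaw_map (M := M) (B := B) (MvPolynomial.aeval (R := A) (![s] : Fin 1 → S))
    (MvPolynomial.X 0 ⊗ₜ[A] 1)
  rw [LinearMap.rTensor_tmul, genVal_tmul_one, map_pow, AlgHom.toLinearMap_apply, MvPolynomial.aeval_X,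
    hd, Matrix.cons_val_zero] at h
  rw [← tmul_one_mul_eq_smul, (isMult_genPLaw (M := M) S).2, h, tmul_one_mul_eq_smul]

variable (M) in
/-- The determinant law of the generic rank. -/
noncomputable def genLaw : _root_.PolLaw.MulLaw A B A d where
  law := genPLaw M
  homog := isHomog_genPLaw hd
  mult := isMult_genPLaw

theorem algebraMap_genLaw {n : ℕ} (x : MvPolynomial (Fin n) A ⊗[A] B) :
    algebraMap (MvPolynomial (Fin n) A) (FractionRing (MvPolynomial (Fin n) A))
        (TensorProduct.rid A (MvPolynomial (Fin n) A) ((genLaw (B := B) M hd).law.toFun' (MvPolynomial (Fin n) A) x)) =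
      LinearMap.det (_root_.PolLaw.actEnd M (FractionRing (MvPolynomial (Fin n) A))
        (Algebra.TensorProduct.map
          (IsScalarTower.toAlgHom A (MvPolynomial (Fin n) A) (FractionRing (MvPolynomial (Fin n) A)))
          (AlgHom.id A B) x)) := by
  refine Eq.trans ?_ (frac_det_eq x).symm
  rw [← toGen_genVal, genToFrac_toGen, show (genLaw (B := B) M hd).law = genPLaw M from rfl,
    genPLaw_apply, TensorProduct.rid_tmul, one_smul]

end GrothLib.GenDet17
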